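import Mathlib
import Cfsg.Agent.FastGrp
import Cfsg.Agent.Prune
set_option linter.all false
prune_inst 0x7f00000000000000000000000000000000000000000000000000000000000000000000000000000000000000000000000000000000000000000000000000000000000000000000000000000000000000003fffffffffffffffffffffffffffbeffbdffffffff
open scoped Cfsg.Agent.FastGrp

/-!
# Elements of order `r` in groups with Sylow subgroups `r²` or `r^{1+2}` given by generators (helper19)

`reps3` : `|G|` not divisible by `r^4`, `u v = v u x^k ≠ v u`, `x` commuting with `u`, `v`, all three of order dividing `r`: every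
cyclic subgroup of order `r` is conjugate to `⟨x⟩`, `⟨u⟩` or `⟨v u^i⟩`, `i < r`.
`reps2` : the same for `r²`.
-/

set_option autoImplicit false
set_option linter.unusedSectionVars false
set_option linter.unusedVariables false

namespace Cfsg.Agent.H19.Odd.Heis

open Subgroup

universe u

variable {G : Type u} [Group G]

theorem pow_comm {x u v : G} {k : ℕ} (hxu : Commute x u) (hxv : Commute x v) (huv : u * v = v * u * x ^ k) (i : ℕ) :
    u ^ i * v = v * u ^ i * x ^ (k * i) := by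
  induction i with
  | zero => simp
  | succ i ih =>
    calc u ^ (i + 1) * v = u * (u ^ i * v) := by rw [pow_succ', mul_assoc]
      _ = (u * v) * u ^ i * x ^ (k * i) := by rw [ih]; group
      _ = v * u * (x ^ k * u ^ i) * x ^ (k * i) := by rw [huv]; group
      _ = v * u * (u ^ i * x ^ k) * x ^ (k * i) := by rw [(hxu.pow_pow k i).eq]
      _ = v * u ^ (i + 1) * x ^ (k * (i + 1)) := by
        rw [pow_succ' u, mul_add, mul_one, add_comm, pow_add]; group

theorem pow_comm' {x u v : G} {k : ℕ} (hxu : Commute x u) (hxv : Commute x v) (huv : u * v = v * u * x ^ k) (i j : ℕ) :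
    u ^ i * v ^ j = v ^ j * u ^ i * x ^ (k * i * j) := by
  induction j with
  | zero => simp
  | succ j ih =>
    calc u ^ i * v ^ (j + 1) = (u ^ i * v ^ j) * v := by rw [pow_succ, mul_assoc]
      _ = v ^ j * u ^ i * (x ^ (k * i * j) * v) := by rw [ih]; group
      _ = v ^ j * (u ^ i * v) * x ^ (k * i * j) := by rw [(hxv.pow_left _).eq]; group
      _ = v ^ j * (v * u ^ i * x ^ (k * i)) * x ^ (k * i * j) := by rw [pow_comm hxu hxv huv]
      _ = v ^ (j + 1) * u ^ i * x ^ (k * i * (j + 1)) := by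
        rw [pow_succ v, mul_add, mul_one, add_comm, pow_add]; group

/-- the normal form -/
def F (x u v g : G) : Prop := ∃ j i l : ℕ, g = v ^ j * u ^ i * x ^ l

theorem F_mul {x u v : G} {k : ℕ} (hxu : Commute x u) (hxv : Commute x v) (huv : u * v = v * u * x ^ k)
    (j i l j' i' l' : ℕ) : (v ^ j * u ^ i * x ^ l) * (v ^ j' * u ^ i' * x ^ l') =
      v ^ (j + j') * u ^ (i + i') * x ^ (k * i * j' + l + l') := by
  calc (v ^ j * u ^ i * x ^ l) * (v ^ j' * u ^ i' * x ^ l')
      = v ^ j * u ^ i * (x ^ l * v ^ j') * u ^ i' * x ^ l' := by group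
    _ = v ^ j * (u ^ i * v ^ j') * (x ^ l * u ^ i') * x ^ l' := by rw [(hxv.pow_pow l j').eq]; group
    _ = v ^ j * (v ^ j' * u ^ i * x ^ (k * i * j')) * (u ^ i' * x ^ l) * x ^ l' := by
      rw [pow_comm' hxu hxv huv, (hxu.pow_pow l i').eq]
    _ = v ^ j * v ^ j' * u ^ i * (x ^ (k * i * j') * u ^ i') * x ^ l * x ^ l' := by group
    _ = v ^ j * v ^ j' * u ^ i * (u ^ i' * x ^ (k * i * j')) * x ^ l * x ^ l' := by
      rw [(hxu.pow_pow (k * i * j') i').eq]
    _ = v ^ (j + j') * u ^ (i + i') * x ^ (k * i * j' + l + l') := by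
      rw [pow_add, pow_add, pow_add, pow_add]; group

theorem F_pow {x u v : G} {k : ℕ} (hxu : Commute x u) (hxv : Commute x v) (huv : u * v = v * u * x ^ k)
    (j i l m : ℕ) : ∃ s : ℕ, (v ^ j * u ^ i * x ^ l) ^ m = v ^ (j * m) * u ^ (i * m) * x ^ s := by
  induction m with
  | zero => exact ⟨0, by simp⟩
  | succ m ih =>
    obtain ⟨s, hs⟩ := ih
    refine ⟨k * (i * m) * j + s + l, ?_⟩
    rw [pow_succ, hs, F_mul hxu hxv huv, mul_add, mul_add, mul_one, mul_one]

/-- the subgroup -/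
def P [Finite G] {x u v : G} {k : ℕ} (hxu : Commute x u) (hxv : Commute x v) (huv : u * v = v * u * x ^ k) :
    Subgroup G :=
  { carrier := {g | F x u v g}
    one_mem' := ⟨0, 0, 0, by simp⟩
    mul_mem' := by
      rintro _ _ ⟨j, i, l, rfl⟩ ⟨j', i', l', rfl⟩
      exact ⟨_, _, _, F_mul hxu hxv huv j i l j' i' l'⟩
    inv_mem' := by
      rintro _ ⟨j, i, l, rfl⟩
      obtain ⟨s, hs⟩ := F_pow hxu hxv huv j i l (orderOf (v ^ j * u ^ i * x ^ l) - 1)
      refine ⟨_, _, s, Eq.trans ?_ hs⟩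
      symm
      rw [eq_inv_iff_mul_eq_one, ← pow_succ, Nat.sub_add_cancel (orderOf_pos _), pow_orderOf_eq_one] }

section

variable {r : ℕ} [hr : Fact r.Prime] {x u v : G} {k : ℕ} (hxr : x ^ r = 1) (hur : u ^ r = 1) (hvr : v ^ r = 1)
  (hxu : Commute x u) (hxv : Commute x v) (huv : u * v = v * u * x ^ k)

include hr in
/-- inverse modulo `r` -/
theorem exists_inv {n : ℕ} (hn : ¬ r ∣ n) : ∃ m q : ℕ, n * m = 1 + q * r := by
  have h1 : n.Coprime r := ((Nat.Prime.coprime_iff_not_dvd hr.out).2 hn).symm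
  obtain ⟨m, hm⟩ := Nat.exists_mul_mod_eq_one_of_coprime h1 hr.out.one_lt
  refine ⟨m, n * m / r, ?_⟩
  have h2 := Nat.mod_add_div (n * m) r
  rw [hm.2, mul_comm r] at h2
  exact h2.symm

include hr in
/-- `n a + l` divisible by `r` -/
theorem exists_sol {n : ℕ} (hn : ¬ r ∣ n) (l : ℕ) : ∃ a q : ℕ, n * a + l = q * r := by
  obtain ⟨m, q, hm⟩ := exists_inv (r := r) hn
  refine ⟨m * (l * (r - 1)), l + q * l * (r - 1), ?_⟩
  have h1 : r = (r - 1) + 1 := (Nat.sub_add_cancel hr.out.one_lt.le).symm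
  generalize r - 1 = w at *
  subst h1
  calc n * (m * (l * w)) + l = (n * m) * (l * w) + l := by ring
    _ = (1 + q * (w + 1)) * (l * w) + l := by rw [hm]
    _ = (l + q * l * w) * (w + 1) := by ring

theorem pow_mod_eq {g : G} (hg : g ^ r = 1) (a q : ℕ) : g ^ (a + q * r) = g ^ a := by
  rw [pow_add, mul_comm q, pow_mul, hg, one_pow, mul_one]

theorem pow_r {g : G} (hg : g ^ r = 1) (q : ℕ) : g ^ (q * r) = 1 := by
  rw [mul_comm q, pow_mul, hg, one_pow]

theorem zpowers_eq_of_pow [Finite G] {b y : G} {m : ℕ} (hb : orderOf b = r) (hy : y ≠ 1) (h : b ^ m = y) :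
    zpowers b = zpowers y := by
  have h1 : y ∈ zpowers b := by rw [← h]; exact pow_mem (mem_zpowers b) m
  have h2 : zpowers y ≤ zpowers b := by rwa [zpowers_le]
  symm
  apply Subgroup.eq_of_le_of_card_ge h2
  rw [Nat.card_zpowers, Nat.card_zpowers, hb]
  have h3 : orderOf y ∣ r := by
    have h4 := Subgroup.card_dvd_of_le h2
    rwa [Nat.card_zpowers, Nat.card_zpowers, hb] at h4
  rcases (Nat.dvd_prime hr.out).1 h3 with h4 | h4
  · exact absurd (orderOf_eq_one_iff.1 h4) hy
  · rw [h4]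

include hxr hur hvr in
theorem reps_aux [Finite G] (hk : x = 1 ∨ ¬ r ∣ k) {b : G} (hb : b ∈ P hxu hxv huv) (hbo : orderOf b = r) :
    ∃ y : G, (y = x ∨ y = u ∨ ∃ i < r, y = v * u ^ i) ∧ ∃ g : G, zpowers (g * b * g⁻¹) = zpowers y := by
  obtain ⟨j, i, l, hbe⟩ := hb
  have hb1 : b ≠ 1 := by
    intro h
    rw [h, orderOf_one] at hbo
    exact hr.out.one_lt.ne hbo
  have hord : ∀ g : G, orderOf (g * b * g⁻¹) = r := by
    intro g
    rw [← MulAut.conj_apply, MulEquiv.orderOf_eq, hbo]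
  -- conjugate of a power
  have key : ∀ (m : ℕ) (g y : G), ¬ r ∣ m → g * b ^ m * g⁻¹ = y → zpowers (g * b * g⁻¹) = zpowers y := by
    intro m g y hm h
    refine zpowers_eq_of_pow (r := r) (m := m) (hord g) ?_ ?_
    · intro hy
      rw [hy, mul_inv_eq_one] at h
      have h1 : b ^ m = 1 := by
        have h2 : g * b ^ m = g * 1 := by rw [h, mul_one]
        exact mul_left_cancel h2
      rw [← orderOf_dvd_iff_pow_eq_one, hbo] at h1
      exact hm h1
    · rw [← h, conj_pow]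
  by_cases hj : r ∣ j
  · obtain ⟨j', rfl⟩ := hj
    rw [mul_comm r, pow_r hvr, one_mul] at hbe
    by_cases hi : r ∣ i
    · obtain ⟨i', rfl⟩ := hi
      rw [mul_comm r, pow_r hur, one_mul] at hbe
      refine ⟨x, Or.inl rfl, 1, ?_⟩
      rw [one_mul, inv_one, mul_one]
      symm
      have hxo : orderOf x = r := by
        rcases (Nat.dvd_prime hr.out).1 (orderOf_dvd_of_pow_eq_one hxr) with h | h
        · rw [orderOf_eq_one_iff] at h
          rw [h, one_pow] at hbe
          exact absurd hbe hb1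
        · exact h
      exact zpowers_eq_of_pow (r := r) hxo hb1 hbe.symm
    · obtain ⟨m, q, hm⟩ := exists_inv (r := r) hi
      have hrm : ¬ r ∣ m := by
        rintro ⟨m', rfl⟩
        have h1 : r ∣ 1 := by
          have h2 : r ∣ 1 + q * r := by rw [← hm]; exact ⟨i * m', by ring⟩
          exact (Nat.dvd_add_left (Dvd.intro_left q rfl)).1 h2
        exact hr.out.one_lt.ne' (Nat.dvd_one.1 h1)
      have hbm : b ^ m = u * x ^ (l * m) := by
        rw [hbe, ((hxu.pow_pow l i).symm).mul_pow, ← pow_mul, ← pow_mul, hm, pow_mod_eq hur, pow_one]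
      refine ⟨u, Or.inr (Or.inl rfl), ?_⟩
      rcases hk with hx1 | hk
      · refine ⟨1, key m 1 u hrm ?_⟩
        rw [hbm, hx1, one_pow, mul_one, one_mul, inv_one, mul_one]
      · obtain ⟨a, q', ha⟩ := exists_sol (r := r) hk (l * m)
        refine ⟨(v ^ a)⁻¹, key m _ u hrm ?_⟩
        rw [hbm, inv_inv]
        have h1 : u * v ^ a = v ^ a * u * x ^ (k * a) := by
          have := pow_comm' hxu hxv huv 1 a
          rwa [pow_one, mul_one] at this
        calc (v ^ a)⁻¹ * (u * x ^ (l * m)) * v ^ a = (v ^ a)⁻¹ * u * (x ^ (l * m) * v ^ a) := by group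
          _ = (v ^ a)⁻¹ * (u * v ^ a) * x ^ (l * m) := by rw [(hxv.pow_pow (l * m) a).eq]; group
          _ = u * (x ^ (k * a) * x ^ (l * m)) := by rw [h1]; group
          _ = u := by rw [← pow_add, ha, pow_r hxr, mul_one]
  · obtain ⟨m, q, hm⟩ := exists_inv (r := r) hj
    have hrm : ¬ r ∣ m := by
      rintro ⟨m', rfl⟩
      have h1 : r ∣ 1 := by
        have h2 : r ∣ 1 + q * r := by rw [← hm]; exact ⟨j * m', by ring⟩
        exact (Nat.dvd_add_left (Dvd.intro_left q rfl)).1 h2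
      exact hr.out.one_lt.ne' (Nat.dvd_one.1 h1)
    obtain ⟨s, hs⟩ := F_pow hxu hxv huv j i l m
    have hbm : b ^ m = v * u ^ ((i * m) % r) * x ^ s := by
      rw [hbe, hs, hm, pow_mod_eq hvr, pow_one]
      congr 2
      conv_lhs => rw [← Nat.mod_add_div (i * m) r, mul_comm r, pow_mod_eq hur]
    refine ⟨v * u ^ ((i * m) % r), Or.inr (Or.inr ⟨_, Nat.mod_lt _ hr.out.pos, rfl⟩), ?_⟩
    rcases hk with hx1 | hk
    · refine ⟨1, key m 1 _ hrm ?_⟩
      rw [hbm, hx1, one_pow, mul_one, one_mul, inv_one, mul_one]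
    · obtain ⟨a, q', ha⟩ := exists_sol (r := r) hk s
      refine ⟨u ^ a, key m _ _ hrm ?_⟩
      rw [hbm]
      calc u ^ a * (v * u ^ (i * m % r) * x ^ s) * (u ^ a)⁻¹
          = (u ^ a * v) * u ^ (i * m % r) * (x ^ s * (u ^ a)⁻¹) := by group
        _ = v * u ^ a * (x ^ (k * a) * u ^ (i * m % r)) * ((u ^ a)⁻¹ * x ^ s) := by
          rw [pow_comm hxu hxv huv, ((hxu.pow_pow s a).inv_right).eq]; group
        _ = v * u ^ a * (u ^ (i * m % r) * x ^ (k * a)) * ((u ^ a)⁻¹ * x ^ s) := by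
          rw [(hxu.pow_pow (k * a) _).eq]
        _ = v * (u ^ a * u ^ (i * m % r)) * (x ^ (k * a) * (u ^ a)⁻¹) * x ^ s := by group
        _ = v * (u ^ (i * m % r) * u ^ a) * ((u ^ a)⁻¹ * x ^ (k * a)) * x ^ s := by
          rw [((hxu.pow_pow (k * a) a).inv_right).eq, ← pow_add, ← pow_add, add_comm a]
        _ = v * u ^ (i * m % r) * (x ^ (k * a) * x ^ s) := by group
        _ = v * u ^ (i * m % r) := by rw [← pow_add, ha, pow_r hxr, mul_one]

include hxr hur hvr in
theorem isPGroup_P [Finite G] : IsPGroup r ↥(P hxu hxv huv) := by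
  rintro ⟨g, j, i, l, rfl⟩
  obtain ⟨s, hs⟩ := F_pow hxu hxv huv j i l r
  refine ⟨2, Subtype.ext ?_⟩
  rw [Subgroup.coe_pow, Subgroup.coe_one, pow_two, pow_mul]
  show ((v ^ j * u ^ i * x ^ l) ^ r) ^ r = 1
  rw [hs, pow_r hvr, pow_r hur, one_mul, one_mul, ← pow_mul, pow_r hxr]

theorem mem_P_x [Finite G] : x ∈ P hxu hxv huv := ⟨0, 0, 1, by simp⟩
theorem mem_P_u [Finite G] : u ∈ P hxu hxv huv := ⟨0, 1, 0, by simp⟩
theorem mem_P_v [Finite G] : v ∈ P hxu hxv huv := ⟨1, 0, 0, by simp⟩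

include hr in
/-- elements of order `r` are conjugate into a large `r`-subgroup -/
theorem conj_mem [Finite G] {Q : Subgroup G} (hQ : IsPGroup r Q) {n : ℕ} (h1 : r ^ n ≤ Nat.card Q)
    (h2 : ¬ r ^ (n + 1) ∣ Nat.card G) {b : G} (hb : orderOf b = r) : ∃ g : G, g * b * g⁻¹ ∈ Q := by
  obtain ⟨S, hS⟩ := hQ.exists_le_sylow
  have hSQ : Q = (S : Subgroup G) := by
    apply Subgroup.eq_of_le_of_card_ge hS
    obtain ⟨m, hm⟩ := IsPGroup.iff_card.1 S.isPGroup'
    have h3 : m ≤ n := by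
      by_contra h
      apply h2
      refine dvd_trans (pow_dvd_pow r (by omega : n + 1 ≤ m)) ?_
      rw [← hm]
      exact Subgroup.card_subgroup_dvd_card _
    rw [hm]
    exact (Nat.pow_le_pow_right hr.out.pos h3).trans h1
  have hb1 : IsPGroup r (zpowers b) := by
    refine IsPGroup.of_card (n := 1) ?_
    rw [Nat.card_zpowers, hb, pow_one]
  obtain ⟨T, hT⟩ := hb1.exists_le_sylow
  obtain ⟨g, hg⟩ := MulAction.exists_smul_eq G T S
  refine ⟨g, ?_⟩
  rw [hSQ, ← hg, Sylow.coe_subgroup_smul]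
  exact ⟨b, hT (mem_zpowers b), rfl⟩

include hxr hur hvr in
/-- the order -/
theorem card_P_dvd [Finite G] (hk : ¬ r ∣ k) (hx : x ≠ 1) : r ^ 3 ∣ Nat.card ↥(P hxu hxv huv) := by
  have hP := isPGroup_P hxr hur hvr hxu hxv huv
  have hxo : orderOf x = r := by
    rcases (Nat.dvd_prime hr.out).1 (orderOf_dvd_of_pow_eq_one hxr) with h | h
    · exact absurd (orderOf_eq_one_iff.1 h) hx
    · exact h
  have hne : u * v ≠ v * u := by
    rw [huv]
    intro h
    have h1 : v * u * x ^ k = v * u * 1 := by rw [h, mul_one]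
    have h2 := mul_left_cancel h1
    rw [← orderOf_dvd_iff_pow_eq_one, hxo] at h2
    exact hk h2
  obtain ⟨n, hn⟩ := IsPGroup.iff_card.1 hP
  rw [hn]
  refine pow_dvd_pow r ?_
  by_contra h
  have hn2 : n = 0 ∨ n = 1 ∨ n = 2 := by omega
  have hcomm : ∀ a b : ↥(P hxu hxv huv), a * b = b * a := by
    rcases hn2 with rfl | rfl | rfl
    · have h1 := (Nat.card_eq_one_iff_unique.1 (by rw [hn, pow_zero])).1
      intro a b
      exact Subsingleton.elim _ _
    · rw [pow_one] at hn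
      have : IsCyclic ↥(P hxu hxv huv) := isCyclic_of_prime_card hn
      intro a b
      exact (IsCyclic.isMulCommutative (α := ↥(P hxu hxv huv))).is_comm.comm a b
    · intro a b
      exact (IsPGroup.isMulCommutative_of_card_eq_prime_sq hn).is_comm.comm a b
  exact hne (congrArg Subtype.val (hcomm ⟨u, mem_P_u hxu hxv huv⟩ ⟨v, mem_P_v hxu hxv huv⟩))

include hxr hur hvr hxu hxv huv in
/-- **Sylow subgroups `r^{1+2}`.** -/
theorem reps3 [Finite G] (hk : ¬ r ∣ k) (hx : x ≠ 1) (hG : ¬ r ^ 4 ∣ Nat.card G) {b : G} (hb : orderOf b = r) :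
    ∃ y : G, (y = x ∨ y = u ∨ ∃ i < r, y = v * u ^ i) ∧ ∃ g : G, zpowers (g * b * g⁻¹) = zpowers y := by
  have hP := isPGroup_P hxr hur hvr hxu hxv huv
  have hcard : r ^ 3 ≤ Nat.card ↥(P hxu hxv huv) :=
    Nat.le_of_dvd Nat.card_pos (card_P_dvd hxr hur hvr hxu hxv huv hk hx)
  obtain ⟨g, hg⟩ := conj_mem hP hcard hG hb
  have ho : orderOf (g * b * g⁻¹) = r := by rw [← MulAut.conj_apply, MulEquiv.orderOf_eq, hb]
  obtain ⟨y, hy, g', hg'⟩ := reps_aux hxr hur hvr hxu hxv huv (Or.inr hk) hg ho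
  refine ⟨y, hy, g' * g, ?_⟩
  rw [← hg']
  congr 1
  group

end

/-- **Sylow subgroups `r²`.** -/
theorem reps2 [Finite G] {r : ℕ} [hr : Fact r.Prime] {u v : G} (hur : u ^ r = 1) (hvr : v ^ r = 1) (huv : u * v = v * u)
    (hu : u ≠ 1) (hv : v ∉ zpowers u) (hG : ¬ r ^ 3 ∣ Nat.card G) {b : G} (hb : orderOf b = r) :
    ∃ y : G, (y = u ∨ ∃ i < r, y = v * u ^ i) ∧ ∃ g : G, zpowers (g * b * g⁻¹) = zpowers y := by
  have hxr : (1 : G) ^ r = 1 := one_pow _
  have huv' : u * v = v * u * 1 ^ 0 := by rw [huv, one_pow, mul_one]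
  have hxu := Commute.one_left u
  have hxv := Commute.one_left v
  have hP := isPGroup_P hxr hur hvr hxu hxv huv'
  have huo : orderOf u = r := by
    rcases (Nat.dvd_prime hr.out).1 (orderOf_dvd_of_pow_eq_one hur) with h | h
    · exact absurd (orderOf_eq_one_iff.1 h) hu
    · exact h
  have hcard : r ^ 2 ≤ Nat.card ↥(P hxu hxv huv') := by
    obtain ⟨n, hn⟩ := IsPGroup.iff_card.1 hP
    rw [hn]
    refine Nat.pow_le_pow_right hr.out.pos ?_
    by_contra h
    have h1 : Nat.card ↥(P hxu hxv huv') ≤ r := by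
      rw [hn]
      calc r ^ n ≤ r ^ 1 := Nat.pow_le_pow_right hr.out.pos (by omega)
        _ = r := pow_one r
    have h2 : zpowers u ≤ P hxu hxv huv' := by
      rw [zpowers_le]
      exact mem_P_u hxu hxv huv'
    have h3 : zpowers u = P hxu hxv huv' := by
      apply Subgroup.eq_of_le_of_card_ge h2
      rwa [Nat.card_zpowers, huo]
    apply hv
    rw [h3]
    exact mem_P_v hxu hxv huv'
  obtain ⟨g, hg⟩ := conj_mem hP hcard hG hb
  have ho : orderOf (g * b * g⁻¹) = r := by rw [← MulAut.conj_apply, MulEquiv.orderOf_eq, hb]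
  obtain ⟨y, hy, g', hg'⟩ := reps_aux hxr hur hvr hxu hxv huv' (Or.inl rfl) hg ho
  have hg1 : zpowers (g' * g * b * (g' * g)⁻¹) = zpowers y := by
    rw [← hg']
    congr 1
    group
  rcases hy with rfl | hy
  · exfalso
    rw [zpowers_one_eq_bot, zpowers_eq_bot, mul_inv_eq_one] at hg1
    have h1 : b = 1 := by
      have h2 : g' * g * b = g' * g * 1 := by rw [hg1, mul_one]
      exact mul_left_cancel h2
    rw [h1, orderOf_one] at hb
    exact hr.out.one_lt.ne hb
  · exact ⟨y, hy, g' * g, hg1⟩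

theorem P_le_centralizer [Finite G] {x u v : G} {k : ℕ} (hxu : Commute x u) (hxv : Commute x v)
    (huv : u * v = v * u * x ^ k) {y : G} (hyx : Commute y x) (hyu : Commute y u) (hyv : Commute y v) :
    P hxu hxv huv ≤ centralizer ({y} : Set G) := by
  rintro _ ⟨j, i, l, rfl⟩
  rw [mem_centralizer_singleton_iff]
  exact (((hyv.pow_right j).mul_right (hyu.pow_right i)).mul_right (hyx.pow_right l)).symm.eq

/-- centralizers -/
theorem card_cent_eq [Finite G] {b y g : G} (h : zpowers (g * b * g⁻¹) = zpowers y) :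
    Nat.card ↥(centralizer ({b} : Set G)) = Nat.card ↥(centralizer ({y} : Set G)) := by
  have h1 : centralizer ({y} : Set G) = (centralizer ({b} : Set G)).map (MulAut.conj g).toMonoidHom := by
    have h2 : centralizer ({y} : Set G) = centralizer ({g * b * g⁻¹} : Set G) := by
      rw [← centralizer_closure {y}, ← centralizer_closure {g * b * g⁻¹}, ← zpowers_eq_closure, ← zpowers_eq_closure, h]
    rw [h2]
    ext c
    rw [mem_centralizer_singleton_iff, Subgroup.mem_map]
    constructor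
    · intro hc
      refine ⟨g⁻¹ * c * g, ?_, ?_⟩
      · rw [mem_centralizer_singleton_iff]
        calc g⁻¹ * c * g * b = g⁻¹ * (c * (g * b * g⁻¹)) * g := by group
          _ = g⁻¹ * ((g * b * g⁻¹) * c) * g := by rw [hc]
          _ = b * (g⁻¹ * c * g) := by group
      · show g * (g⁻¹ * c * g) * g⁻¹ = c
        group
    · rintro ⟨d, hd, rfl⟩
      rw [mem_centralizer_singleton_iff] at hd
      show g * d * g⁻¹ * (g * b * g⁻¹) = g * b * g⁻¹ * (g * d * g⁻¹)
      calc g * d * g⁻¹ * (g * b * g⁻¹) = g * (d * b) * g⁻¹ := by group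
        _ = g * (b * d) * g⁻¹ := by rw [hd]
        _ = _ := by group
  rw [h1, Subgroup.card_map_of_injective (MulAut.conj g).injective]

end Cfsg.Agent.H19.Odd.Heis
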