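import Cfsg.Agent.KFacts.He.TwoA_m3
import Cfsg.Agent.H19.Odd.Heis
import Cfsg.Agent.CpAutHe.Seven
import Cfsg.Agent.H478.SporHe
import Cfsg.Agent.FastGrp
import Cfsg.Agent.Prune
set_option linter.all false

section
prune_inst 0x7f00000000000000000000000000000000000000000000000000000000000000000000000000000000000000000000000000000000000000000000000000000000000000000000000000000000000000003fffffffffffffffffffffffffffbeffbdffffffff

-- part: H19/Odd/HeCntB
section
set_option linter.all false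
open scoped Cfsg.Agent.FastGrp

/-!
# The centralizers of a `3B` and a `7C` element of the Held group (helper19)
-/

set_option autoImplicit false

namespace Cfsg.Agent.H19.Odd.HeCnt

open Subgroup
open Cfsg.Spor Cfsg.Spor.He Cfsg.Agent.SporadicB.HePerm
open Cfsg.Agent.FixBN.HeStab Cfsg.Agent.KFacts.He.Lv Cfsg.Agent.CpAutHe.Cnt

set_option maxRecDepth 100000

/-- `3B` -/
def XB : List Gen := [.b, .c]
/-- `7C` -/
def XC : List Gen := [.a, .b, .c, .d, .f, .b, .c, .d, .g, .e]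

def lB : List Stp := [⟨17, [], [1], 126⟩, ⟨63, [34], [1], 4⟩, ⟨3, [288, 152], [1], 1⟩, ⟨15, [220, 17, 288, 13, 152], [], 1⟩,
  ⟨20, [13, 288, 63], [1], 1⟩, ⟨22, [3, 63], [1], 1⟩, ⟨37, [288, 151, 141], [1], 1⟩, ⟨44, [151, 20, 37], [1], 1⟩,
  ⟨46, [16, 219, 37], [1], 1⟩, ⟨0, [122, 37, 44], [], 1⟩, ⟨8, [219, 25, 122], [], 1⟩, ⟨32, [22, 141, 14], [], 1⟩]

def lC : List Stp := [⟨0, [], [3], 686⟩, ⟨389, [180, 678, 29], [], 1⟩, ⟨457, [389, 1688, 1975], [], 1⟩,
  ⟨475, [1688, 1975, 672], [], 1⟩, ⟨5, [475, 509, 520], [], 3⟩, ⟨1, [227, 5, 29], [2], 1⟩, ⟨8, [1060, 909], [3], 1⟩,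
  ⟨32, [481, 5, 57], [], 1⟩]

theorem runB : run XB lB [] = true := by
  rw [Cfsg.Agent.H19.Odd.HeCnt.scrFast_eq]
  decide +kernel
theorem runC : run XC lC [] = true := by
  rw [Cfsg.Agent.H19.Odd.HeCnt.scrFast_eq]
  decide +kernel

theorem cardB : Nat.card ↥(centralizer ({wd XB} : Set Cfsg.Spor.He)) ≤ 504 := card_le runB (by decide)
theorem cardC : Nat.card ↥(centralizer ({wd XC} : Set Cfsg.Spor.He)) ≤ 2058 := card_le runC (by decide)

end Cfsg.Agent.H19.Odd.HeCnt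
end

-- part: H19/Odd/HeCntA
section
set_option linter.all false
open scoped Cfsg.Agent.FastGrp

/-!
# The centralizer of a `3A` element of the Held group (helper19)
-/

set_option autoImplicit false

namespace Cfsg.Agent.H19.Odd.HeCnt

open Subgroup
open Cfsg.Spor Cfsg.Spor.He Cfsg.Agent.SporadicB.HePerm
open Cfsg.Agent.FixBN.HeStab Cfsg.Agent.KFacts.He.Lv Cfsg.Agent.CpAutHe.Cnt

set_option maxRecDepth 100000

/-- `3A` -/
def XA : List Gen := [.d, .e]

def lA : List Stp := [⟨30, [], [1], 756⟩, ⟨20, [30], [1], 1⟩, ⟨229, [20], [1], 1⟩, ⟨126, [229, 195, 20], [], 10⟩,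
  ⟨5, [58, 126, 195, 30], [], 1⟩, ⟨6, [126, 271, 23, 5, 58, 229], [], 1⟩, ⟨10, [126, 5], [1], 1⟩,
  ⟨16, [195, 5, 14], [1], 1⟩, ⟨33, [6, 30, 7], [], 1⟩, ⟨38, [150, 20, 52], [], 1⟩, ⟨39, [33, 44, 23], [], 1⟩,
  ⟨0, [39], [1], 1⟩, ⟨1, [16, 39], [1], 1⟩, ⟨8, [16, 25, 40, 10], [], 1⟩, ⟨32, [73, 62, 49], [], 1⟩]

theorem runA : run XA lA [] = true := by
  rw [Cfsg.Agent.H19.Odd.HeCnt.scrFast_eq]
  decide +kernel

theorem cardA : Nat.card ↥(centralizer ({wd XA} : Set Cfsg.Spor.He)) ≤ 7560 := card_le runA (by decide)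

end Cfsg.Agent.H19.Odd.HeCnt
end

-- part: H19/Odd/HeEl
section
prune_inst 0xffffffffffffffffff7ffffffdfffffffffffffffffbfbfffdffffffffebfffff5ffbffffffdfffffff2bebefefbfbfffffffffffffffffffffffcffffffdfffffffbf7fffbfffdfff7fffffffffffffc00000000000000000000000000041004200000000
set_option linter.all false
open scoped Cfsg.Agent.FastGrp

/-!
# The elements of order 3 and 5 of the Held group (helper19)

* `three` : `|C(b)| ≤ 504`, or `8 ∣ |C(b)| ≤ 7560`, for `b` of order 3;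
* `five` : elements of order 5 and 7 do not commute;
-/

set_option autoImplicit false
set_option maxRecDepth 100000

namespace Cfsg.Agent.H19.Odd.HeEl

open Subgroup
open Cfsg.Spor.He (Gen)
open Cfsg.Agent.SporadicB.HePerm (act wd phi phi_wd_apply)
open Cfsg.Agent.FixBN.HeStab Cfsg.Agent.KFacts.He.Lv Cfsg.Agent.CpAutHe.Cnt Cfsg.Agent.H19.Odd.HeCnt
open Cfsg.Agent.CpAutHe.Seven (ne_one_of_act card_cent_le)

/-! ### Words -/

theorem one_of_chk {v : List Gen} (h : chkB v [] = true) : wd v = 1 := by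
  rw [eq_of_chkB h, wd_nil]

theorem pow_of_chk {v : List Gen} {n : ℕ} (h : chkB (pw v n) [] = true) : wd v ^ n = 1 := by
  rw [← wd_pw, one_of_chk h]

theorem comm_of_chk {v w : List Gen} (h : chkB (v ++ w) (w ++ v) = true) : Commute (wd v) (wd w) := by
  have := eq_of_chkB h
  rwa [wd_append, wd_append] at this

theorem conj_of_chk {g v w : List Gen} (h : chkB (g ++ v) (w ++ g) = true) : wd g * wd v * (wd g)⁻¹ = wd w := by
  have := eq_of_chkB h
  rw [wd_append, wd_append] at this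
  rw [this, mul_inv_cancel_right]

theorem orderOf_of {v : List Gen} {r : ℕ} (hr : r.Prime) (h1 : wd v ^ r = 1) (h2 : wd v ≠ 1) : orderOf (wd v) = r := by
  have : Fact r.Prime := ⟨hr⟩
  exact orderOf_eq_prime h1 h2

theorem not_dvd {r n : ℕ} (h : (4030387200 % r ^ n == 0) = false) : ¬ r ^ n ∣ Nat.card Cfsg.Spor.He := by
  rw [card_he]
  intro h1
  rw [Nat.mod_eq_zero_of_dvd h1] at h
  exact absurd h (by decide)

/-! ### Order 3 -/

def U3 : List Gen := [.f, .g, .c, .d, .f, .g, .c]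
def V3 : List Gen := [.b, .c, .b, .d, .e, .f, .d, .c, .b, .d, .c, .e, .d, .c, .d, .b, .c, .d, .f, .e, .d, .c, .d, .b, .c,
  .d, .c]
def G3u : List Gen := [.c, .g, .f]
def G3v : List Gen := [.c, .b, .d, .c, .e, .d, .g, .e, .d, .c, .d, .b, .c]
def G3a : List Gen := [.d, .c, .d, .c, .b, .d, .e, .f, .d, .c, .d, .f, .c, .d, .c, .d, .g, .b, .c]
def G3b : List Gen := [.d, .c, .b, .a, .d, .c, .b, .g, .d, .c, .d, .g, .c, .d, .c, .d, .f, .b, .c]

theorem A_pow : wd XA ^ 3 = 1 := pow_of_chk (by decide +kernel)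
theorem A_ne : wd XA ≠ 1 := ne_one_of_act 30 (by decide +kernel)
theorem U3_pow : wd U3 ^ 3 = 1 := pow_of_chk (by decide +kernel)
theorem V3_pow : wd V3 ^ 3 = 1 := pow_of_chk (by decide +kernel)
theorem A_U3 : Commute (wd XA) (wd U3) := comm_of_chk (by decide +kernel)
theorem A_V3 : Commute (wd XA) (wd V3) := comm_of_chk (by decide +kernel)
theorem U3_V3 : wd U3 * wd V3 = wd V3 * wd U3 * wd XA ^ 1 := by
  have h := eq_of_chkB (v := U3 ++ V3) (w := V3 ++ (U3 ++ XA)) (by decide +kernel)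
  rw [wd_append, wd_append, wd_append] at h
  rw [h, pow_one, mul_assoc]

theorem g3u : wd G3u * wd U3 * (wd G3u)⁻¹ = wd XA := conj_of_chk (by decide +kernel)
theorem g3v : wd G3v * wd V3 * (wd G3v)⁻¹ = wd XA := conj_of_chk (by decide +kernel)
theorem g3a : wd G3a * wd (V3 ++ U3) * (wd G3a)⁻¹ = wd XB := conj_of_chk (by decide +kernel)
theorem g3b : wd G3b * wd (V3 ++ (U3 ++ U3)) * (wd G3b)⁻¹ = wd XB := conj_of_chk (by decide +kernel)

/-- the dihedral group `⟨a, b⟩` in `C(de)` -/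
theorem eight : 8 ∣ Nat.card ↥(centralizer ({wd XA} : Set Cfsg.Spor.He)) := by
  have h2 : Fact (Nat.Prime 2) := ⟨Nat.prime_two⟩
  have hu : wd [.a] ^ 2 = 1 := pow_of_chk (by decide +kernel)
  have hv : wd [.b] ^ 2 = 1 := pow_of_chk (by decide +kernel)
  have hx : wd [.a, .b, .a, .b] ^ 2 = 1 := pow_of_chk (by decide +kernel)
  have hne : wd [.a, .b, .a, .b] ≠ 1 := ne_one_of_act 1549 (by decide +kernel)
  have hxu : Commute (wd [.a, .b, .a, .b]) (wd [.a]) := comm_of_chk (by decide +kernel)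
  have hxv : Commute (wd [.a, .b, .a, .b]) (wd [.b]) := comm_of_chk (by decide +kernel)
  have huv : wd [.a] * wd [.b] = wd [.b] * wd [.a] * wd [.a, .b, .a, .b] ^ 1 := by
    have h := eq_of_chkB (v := ([.a] : List Cfsg.Spor.He.Gen) ++ ([.b] : List Cfsg.Spor.He.Gen)) (w := ([.b] : List Cfsg.Spor.He.Gen) ++ (([.a] : List Cfsg.Spor.He.Gen) ++ ([.a, .b, .a, .b] : List Cfsg.Spor.He.Gen))) (by decide +kernel)
    rw [wd_append, wd_append, wd_append] at h
    rw [h, pow_one, mul_assoc]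
  have h3 := Heis.card_P_dvd hx hu hv hxu hxv huv (by norm_num) hne
  refine dvd_trans h3 (Subgroup.card_dvd_of_le ?_)
  exact Heis.P_le_centralizer hxu hxv huv (comm_of_chk (by decide +kernel)) (comm_of_chk (by decide +kernel))
    (comm_of_chk (by decide +kernel))

theorem three {b : Cfsg.Spor.He} (hb : orderOf b = 3) : Nat.card ↥(centralizer ({b} : Set Cfsg.Spor.He)) ≤ 504 ∨
    8 ∣ Nat.card ↥(centralizer ({b} : Set Cfsg.Spor.He)) ∧ Nat.card ↥(centralizer ({b} : Set Cfsg.Spor.He)) ≤ 7560 := by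
  have h3 : Fact (Nat.Prime 3) := ⟨Nat.prime_three⟩
  have key : ∀ {y g : Cfsg.Spor.He}, g * y * g⁻¹ = wd XA →
      (8 ∣ Nat.card ↥(centralizer ({y} : Set Cfsg.Spor.He)) ∧ Nat.card ↥(centralizer ({y} : Set Cfsg.Spor.He)) ≤ 7560) := by
    intro y g h
    rw [Heis.card_cent_eq (b := y) (y := wd XA) (g := g) (by rw [h])]
    exact ⟨eight, cardA⟩
  have key2 : ∀ {y g : Cfsg.Spor.He}, g * y * g⁻¹ = wd XB → Nat.card ↥(centralizer ({y} : Set Cfsg.Spor.He)) ≤ 504 := by
    intro y g h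
    rw [Heis.card_cent_eq (b := y) (y := wd XB) (g := g) (by rw [h])]
    exact cardB
  obtain ⟨y, hy, g, hg⟩ := Heis.reps3 A_pow U3_pow V3_pow A_U3 A_V3 U3_V3 (by norm_num) A_ne (not_dvd (by decide)) hb
  rw [Heis.card_cent_eq hg]
  rcases hy with rfl | rfl | ⟨i, hi, rfl⟩
  · exact Or.inr ⟨eight, cardA⟩
  · exact Or.inr (key g3u)
  · interval_cases i
    · rw [pow_zero, mul_one]
      exact Or.inr (key g3v)
    · rw [pow_one, ← wd_append]
      exact Or.inl (key2 g3a)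
    · rw [pow_two, ← wd_append, ← wd_append]
      exact Or.inl (key2 g3b)

/-! ### Order 5 -/

def U5 : List Gen := [.c, .d, .c, .d]
def V5 : List Gen := [.b, .c, .f, .g, .d, .f, .c, .d, .b, .c, .d, .g, .c, .d, .c, .d, .g, .c]

theorem U5_pow : wd U5 ^ 5 = 1 := pow_of_chk (by decide +kernel)
theorem V5_pow : wd V5 ^ 5 = 1 := pow_of_chk (by decide +kernel)
theorem U5_V5 : wd U5 * wd V5 = wd V5 * wd U5 := (comm_of_chk (by decide +kernel)).eq

theorem f5u : cnt 2058 (fun i => Nat.beq (act U5 i) i) = 8 := by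
  rw [Cfsg.Agent.KFacts.He.Fast.act_fast]
  decide +kernel
theorem f50 : cnt 2058 (fun i => Nat.beq (act V5 i) i) = 8 := by
  rw [Cfsg.Agent.KFacts.He.Fast.act_fast]
  decide +kernel
theorem f51 : cnt 2058 (fun i => Nat.beq (act (V5 ++ pw U5 1) i) i) = 8 := by
  rw [Cfsg.Agent.KFacts.He.Fast.act_fast]
  decide +kernel
theorem f52 : cnt 2058 (fun i => Nat.beq (act (V5 ++ pw U5 2) i) i) = 8 := by
  rw [Cfsg.Agent.KFacts.He.Fast.act_fast]
  decide +kernel
theorem f53 : cnt 2058 (fun i => Nat.beq (act (V5 ++ pw U5 3) i) i) = 8 := by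
  rw [Cfsg.Agent.KFacts.He.Fast.act_fast]
  decide +kernel
theorem f54 : cnt 2058 (fun i => Nat.beq (act (V5 ++ pw U5 4) i) i) = 8 := by
  rw [Cfsg.Agent.KFacts.He.Fast.act_fast]
  decide +kernel

theorem not_comm_of_cnt {W : List Gen} (hW : cnt 2058 (fun i => Nat.beq (act W i) i) = 8) {y : Cfsg.Spor.He}
    (hy : orderOf y = 7) : ¬ Commute y (wd W) := by
  intro hc
  have h7 : Fact (Nat.Prime 7) := ⟨by norm_num⟩
  let S : Finset (Fin 2058) := Finset.univ.filter fun i => phi (wd W) i = i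
  have hcard : S.card = 8 := by
    rw [← card_filter] at hW
    rw [← hW]
    refine Finset.card_bij (fun (i : Fin 2058) _ => (i : ℕ)) ?_ ?_ ?_
    · intro i hi
      rw [Finset.mem_filter] at hi
      rw [Finset.mem_filter, Finset.mem_range]
      refine ⟨i.2, ?_⟩
      rw [act_eq, hi.2]
      exact Nat.beq_refl _
    · intro i _ j _ h
      exact Fin.ext h
    · intro i hi
      rw [Finset.mem_filter, Finset.mem_range] at hi
      refine ⟨⟨i, hi.1⟩, ?_, rfl⟩
      rw [Finset.mem_filter]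
      refine ⟨Finset.mem_univ _, Fin.ext ?_⟩
      have h := Nat.eq_of_beq_eq_true hi.2
      rw [← act_eq]
      exact h
  have hS : ∀ i : Fin 2058, i ∈ S ↔ phi (wd W) i = i := by
    intro i
    rw [Finset.mem_filter]
    exact ⟨fun h => h.2, fun h => ⟨Finset.mem_univ _, h⟩⟩
  have hinv : ∀ i : Fin 2058, phi y i ∈ S ↔ i ∈ S := by
    intro i
    rw [hS, hS, ← Equiv.Perm.mul_apply, ← map_mul, ← hc.eq, map_mul, Equiv.Perm.mul_apply]
    exact (phi y).injective.eq_iff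
  let σ : Equiv.Perm ↥S := (phi y).subtypePerm hinv
  have hσ : σ ^ 7 ^ 1 = 1 := by
    rw [pow_one]
    have h1 : (phi y) ^ 7 = 1 := by rw [← map_pow, ← hy, pow_orderOf_eq_one, map_one]
    ext i
    have h2 : (((σ ^ 7) i : ↥S) : Fin 2058) = ((phi y) ^ 7) i := by
      rw [Equiv.Perm.subtypePerm_pow]
      rfl
    rw [h2, h1]
    rfl
  obtain ⟨i, hi⟩ := Equiv.Perm.exists_fixed_point_of_prime (p := 7) (n := 1) (σ := σ)
    (by rw [Fintype.card_coe, hcard]; norm_num) hσ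
  exact H478.SporHe.no_fix hy (i : Fin 2058) (congrArg Subtype.val hi)

theorem five {b y : Cfsg.Spor.He} (hb : orderOf b = 5) (hy : orderOf y = 7) : ¬ Commute y b := by
  have h5 : Fact (Nat.Prime 5) := ⟨by norm_num⟩
  intro hc
  have hU : wd U5 ≠ 1 := ne_one_of_act 30 (by decide +kernel)
  have hV : wd V5 ∉ zpowers (wd U5) := by
    intro h
    obtain ⟨k, hk⟩ := mem_zpowers_iff.1 h
    have h1 : phi (wd U5) 139 = 139 := by
      apply Fin.ext
      rw [phi_wd_apply]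
      decide +kernel
    have h2 : phi (wd V5) 139 = 139 := by
      rw [← hk, map_zpow]
      exact Equiv.Perm.zpow_apply_eq_self_of_apply_eq_self h1 k
    have h3 : act V5 139 = 139 := by
      have := congrArg Fin.val h2
      rwa [phi_wd_apply] at this
    have h4 : Nat.beq (act V5 139) 139 = false := by decide +kernel
    rw [h3] at h4
    exact absurd h4 (by decide)
  obtain ⟨z, hz, g, hg⟩ := Heis.reps2 U5_pow V5_pow U5_V5 hU hV (not_dvd (by decide)) hb
  -- `g y g⁻¹` commutes with `z`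
  have hyz : Commute (g * y * g⁻¹) z := by
    have h1 : z ∈ zpowers (g * b * g⁻¹) := by rw [hg]; exact mem_zpowers z
    obtain ⟨k, hk⟩ := mem_zpowers_iff.1 h1
    rw [← hk]
    refine Commute.zpow_right ?_ k
    show g * y * g⁻¹ * (g * b * g⁻¹) = g * b * g⁻¹ * (g * y * g⁻¹)
    calc g * y * g⁻¹ * (g * b * g⁻¹) = g * (y * b) * g⁻¹ := by group
      _ = g * (b * y) * g⁻¹ := by rw [hc.eq]
      _ = _ := by group
  have ho : orderOf (g * y * g⁻¹) = 7 := by rw [← MulAut.conj_apply, MulEquiv.orderOf_eq, hy]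
  rcases hz with rfl | ⟨i, hi, rfl⟩
  · exact not_comm_of_cnt f5u ho hyz
  · rw [← wd_pw, ← wd_append] at hyz
    interval_cases i
    · exact not_comm_of_cnt (W := V5 ++ pw U5 0) (by exact f50) ho hyz
    · exact not_comm_of_cnt f51 ho hyz
    · exact not_comm_of_cnt f52 ho hyz
    · exact not_comm_of_cnt f53 ho hyz
    · exact not_comm_of_cnt f54 ho hyz

end Cfsg.Agent.H19.Odd.HeEl
end

-- part: H19/Odd/HeEl7
section
set_option linter.all false
open scoped Cfsg.Agent.FastGrp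

/-!
# The elements of order 7 of the Held group (helper19)

* `seven` : `|C(b)|` is even, or `⟨b⟩` is conjugate to `⟨wd XC⟩`, for `b` of order 7;
* `dvdC`, `invC` : `343 ∣ |C(wd XC)|`, an involution inverts `wd XC` (and `cardC : |C(wd XC)| ≤ 2058`).
-/

set_option autoImplicit false
set_option maxRecDepth 100000

namespace Cfsg.Agent.H19.Odd.HeEl

open Subgroup
open Cfsg.Spor.He (Gen)
open Cfsg.Agent.SporadicB.HePerm (act wd phi phi_wd_apply)
open Cfsg.Agent.FixBN.HeStab Cfsg.Agent.KFacts.He.Lv Cfsg.Agent.CpAutHe.Cnt Cfsg.Agent.H19.Odd.HeCnt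
open Cfsg.Agent.CpAutHe.Seven (ne_one_of_act card_cent_le)

def U7 : List Gen := [.f, .c, .d, .g, .f, .d, .g, .f, .c, .d, .c, .b, .a]
def V7 : List Gen := [.f, .g, .d, .b, .c, .d, .g, .d, .b, .c, .d, .f, .e, .b, .c]
def T7u : List Gen := [.c, .b, .d, .c, .d, .c, .b, .g, .d, .c, .b, .d, .c, .g, .d, .c, .d, .b, .c, .d, .a, .b, .c, .d, .f,
  .e, .d, .c]
def G70 : List Gen := [.a, .d, .c, .d, .e, .d, .c, .b, .f, .d, .e, .c, .d, .b, .c, .d, .f, .b]
def T71 : List Gen := [.f, .d, .c, .b, .d, .c, .d, .c, .b, .a, .g, .d, .f, .c, .d, .g, .b, .c, .d, .c, .d, .b, .c, .d, .f]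
def T72 : List Gen := [.d, .f, .d, .c, .d, .c, .b, .d, .c, .d, .g, .c, .d, .c, .d, .b, .c, .d, .c, .d, .f, .d]
def G73 : List Gen := [.c, .g, .d, .c, .d, .e, .b, .a]
def T74 : List Gen := [.d, .e, .c, .d, .f, .d, .c, .d, .b, .a, .b]
def G75 : List Gen := [.d, .c, .e, .d, .f, .d, .c, .d, .f, .b, .c, .d, .g, .b, .c, .d, .a, .b]
def T76 : List Gen := [.a, .d, .c, .f, .d, .c, .d, .e, .b, .c, .d, .c, .d, .b, .c, .d, .f, .c, .d]
def T7c : List Gen := [.g, .b, .c, .a, .b]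

theorem C_pow : wd XC ^ 7 = 1 := pow_of_chk (by decide +kernel)
theorem C_ne : wd XC ≠ 1 := ne_one_of_act 5 (by decide +kernel)
theorem U7_pow : wd U7 ^ 7 = 1 := pow_of_chk (by decide +kernel)
theorem V7_pow : wd V7 ^ 7 = 1 := pow_of_chk (by decide +kernel)
theorem C_U7 : Commute (wd XC) (wd U7) := comm_of_chk (by decide +kernel)
theorem C_V7 : Commute (wd XC) (wd V7) := comm_of_chk (by decide +kernel)
theorem U7_V7 : wd U7 * wd V7 = wd V7 * wd U7 * wd XC ^ 2 := by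
  have h := eq_of_chkB (v := U7 ++ V7) (w := V7 ++ (U7 ++ pw XC 2)) (by decide +kernel)
  rw [wd_append, wd_append, wd_append, wd_pw] at h
  rw [h, mul_assoc]

theorem g70 : wd G70 * wd (V7 ++ pw U7 0) * (wd G70)⁻¹ = wd XC := conj_of_chk (by decide +kernel)
theorem g73 : wd G73 * wd (V7 ++ pw U7 3) * (wd G73)⁻¹ = wd XC := conj_of_chk (by decide +kernel)
theorem g75 : wd G75 * wd (V7 ++ pw U7 5) * (wd G75)⁻¹ = wd XC := conj_of_chk (by decide +kernel)

/-- an involution commuting with an element -/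
theorem even_of {T W : List Gen} (h1 : chkB (pw T 2) [] = true) {i : Fin 2058} (h2 : Nat.beq (act T i) i = false)
    (h3 : chkB (T ++ W) (W ++ T) = true) : 2 ∣ Nat.card ↥(centralizer ({wd W} : Set Cfsg.Spor.He)) := by
  have h4 : orderOf (wd T) = 2 := orderOf_of Nat.prime_two (pow_of_chk h1) (ne_one_of_act i h2)
  have h5 : wd T ∈ centralizer ({wd W} : Set Cfsg.Spor.He) := mem_centralizer_singleton_iff.2 (comm_of_chk h3).eq
  have h6 := orderOf_dvd_natCard (⟨wd T, h5⟩ : ↥(centralizer ({wd W} : Set Cfsg.Spor.He)))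
  rwa [Subgroup.orderOf_mk, h4] at h6

theorem t7u : 2 ∣ Nat.card ↥(centralizer ({wd U7} : Set Cfsg.Spor.He)) :=
  even_of (T := T7u) (i := 2) (by decide +kernel) (by decide +kernel) (by decide +kernel)
theorem t71 : 2 ∣ Nat.card ↥(centralizer ({wd (V7 ++ pw U7 1)} : Set Cfsg.Spor.He)) :=
  even_of (T := T71) (i := 2) (by decide +kernel) (by decide +kernel) (by decide +kernel)
theorem t72 : 2 ∣ Nat.card ↥(centralizer ({wd (V7 ++ pw U7 2)} : Set Cfsg.Spor.He)) :=
  even_of (T := T72) (i := 2) (by decide +kernel) (by decide +kernel) (by decide +kernel)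
theorem t74 : 2 ∣ Nat.card ↥(centralizer ({wd (V7 ++ pw U7 4)} : Set Cfsg.Spor.He)) :=
  even_of (T := T74) (i := 2) (by decide +kernel) (by decide +kernel) (by decide +kernel)
theorem t76 : 2 ∣ Nat.card ↥(centralizer ({wd (V7 ++ pw U7 6)} : Set Cfsg.Spor.He)) :=
  even_of (T := T76) (i := 2) (by decide +kernel) (by decide +kernel) (by decide +kernel)

theorem seven {b : Cfsg.Spor.He} (hb : orderOf b = 7) : 2 ∣ Nat.card ↥(centralizer ({b} : Set Cfsg.Spor.He)) ∨
    ∃ g : Cfsg.Spor.He, zpowers (g * b * g⁻¹) = zpowers (wd XC) := by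
  have h7 : Fact (Nat.Prime 7) := ⟨by norm_num⟩
  obtain ⟨y, hy, g, hg⟩ := Heis.reps3 C_pow U7_pow V7_pow C_U7 C_V7 U7_V7 (by norm_num) C_ne (not_dvd (by decide)) hb
  have hyb : 2 ∣ Nat.card ↥(centralizer ({y} : Set Cfsg.Spor.He)) → 2 ∣ Nat.card ↥(centralizer ({b} : Set Cfsg.Spor.He)) := by
    rw [Heis.card_cent_eq hg]
    exact id
  have hyc : ∀ u : Cfsg.Spor.He, u * y * u⁻¹ = wd XC → ∃ g : Cfsg.Spor.He, zpowers (g * b * g⁻¹) = zpowers (wd XC) := by
    intro u hu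
    refine ⟨u * g, ?_⟩
    have e1 : u * g * b * (u * g)⁻¹ = MulAut.conj u (g * b * g⁻¹) := by
      rw [MulAut.conj_apply]
      group
    rw [e1, ← hu, ← MulAut.conj_apply]
    have h2 := congrArg (Subgroup.map (MulAut.conj u).toMonoidHom) hg
    rw [MonoidHom.map_zpowers, MonoidHom.map_zpowers] at h2
    exact h2
  rcases hy with rfl | rfl | ⟨i, hi, rfl⟩
  · exact Or.inr ⟨g, hg⟩
  · exact Or.inl (hyb t7u)
  · rw [← wd_pw, ← wd_append] at hyb hyc
    interval_cases i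
    · exact Or.inr (hyc _ g70)
    · exact Or.inl (hyb t71)
    · exact Or.inl (hyb t72)
    · exact Or.inr (hyc _ g73)
    · exact Or.inl (hyb t74)
    · exact Or.inr (hyc _ g75)
    · exact Or.inl (hyb t76)

theorem dvdC : 343 ∣ Nat.card ↥(centralizer ({wd XC} : Set Cfsg.Spor.He)) := by
  have h7 : Fact (Nat.Prime 7) := ⟨by norm_num⟩
  have h3 := Heis.card_P_dvd C_pow U7_pow V7_pow C_U7 C_V7 U7_V7 (by norm_num) C_ne
  exact dvd_trans h3 (Subgroup.card_dvd_of_le
    (Heis.P_le_centralizer C_U7 C_V7 U7_V7 (Commute.refl _) C_U7 C_V7))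

/-- an involution inverting `wd XC` -/
theorem invC : orderOf (wd T7c) = 2 ∧ wd T7c * wd XC * (wd T7c)⁻¹ = (wd XC)⁻¹ := by
  refine ⟨orderOf_of Nat.prime_two (pow_of_chk (by decide +kernel)) (ne_one_of_act 2 (by decide +kernel)), ?_⟩
  have h1 : wd T7c * wd XC * (wd T7c)⁻¹ = wd (pw XC 6) := conj_of_chk (by decide +kernel)
  rw [h1, wd_pw, eq_comm, inv_eq_iff_mul_eq_one, ← pow_succ', C_pow]

end Cfsg.Agent.H19.Odd.HeEl
end
end
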